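import Groth.Agent.PConeLib.Basic
import Mathlib

/-!
# Charts of an isomorphism of homogeneous spectra
-/

set_option autoImplicit false
set_option linter.style.haveILetI false
set_option backward.isDefEq.respectTransparency false
set_option backward.isDefEq.respectTransparency.types false

universe u

open CategoryTheory CategoryTheory.Limits AlgebraicGeometry TopologicalSpace HomogeneousLocalization

namespace Groth.Agent.ProjDegOne

variable {R A B : Type u} [CommRing R] [CommRing A] [Algebra R A] {𝒜 : ℕ → Submodule R A} [GradedAlgebra 𝒜]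
  [CommRing B] [Algebra R B] {ℬ : ℕ → Submodule R B} [GradedAlgebra ℬ] {φ : 𝒜 →+*ᵍ ℬ}

theorem bijective_away_map (p : (PCone.dom φ : Scheme.{u}) ⟶ Proj 𝒜)
    (hp : ∀ (d : ℕ) (f : A) (hd : 0 < d) (hf : f ∈ 𝒜 d),
      PCone.chart φ hf hd ≫ p = Spec.map (CommRingCat.ofHom (Away.map φ f)) ≫ Proj.awayι 𝒜 f hf hd)
    [IsIso p] {d : ℕ} {f : A} (hd : 0 < d) (hf : f ∈ 𝒜 d) : Function.Bijective (Away.map φ f) := by
  haveI := PConeLib.isOpenImmersion_chart φ hf hd
  have hrange : Set.range (PCone.chart φ hf hd ≫ p).base = Set.range (Proj.awayι 𝒜 f hf hd).base := by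
    have h1 : Set.range (PCone.chart φ hf hd).base = p.base ⁻¹' (Proj.basicOpen 𝒜 f : Set (Proj 𝒜)) := by
      ext z
      refine (PConeLib.mem_opensRange_chart φ hf hd z).trans ?_
      exact (SetLike.ext_iff.1 (PConeLib.preimage_basicOpen hp hd hf) z).symm
    have h2 : Function.Surjective p.base := p.homeomorph.surjective
    rw [show Set.range (PCone.chart φ hf hd ≫ p).base = p.base '' Set.range (PCone.chart φ hf hd).base from
      Set.range_comp p.base (PCone.chart φ hf hd).base, h1, Set.image_preimage_eq _ h2]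
    exact (congrArg (fun U : (Proj 𝒜).Opens => (U : Set (Proj 𝒜))) (Proj.opensRange_awayι 𝒜 f hf hd)).symm
  haveI : IsIso (Spec.map (CommRingCat.ofHom (Away.map φ f))) := by
    have he : Spec.map (CommRingCat.ofHom (Away.map φ f)) =
        (IsOpenImmersion.isoOfRangeEq (PCone.chart φ hf hd ≫ p) (Proj.awayι 𝒜 f hf hd) hrange).hom := by
      rw [← cancel_mono (Proj.awayι 𝒜 f hf hd), IsOpenImmersion.isoOfRangeEq_hom_fac, hp d f hd hf]
    rw [he]
    infer_instance
  haveI : IsIso (Scheme.Spec.map (CommRingCat.ofHom (Away.map φ f)).op) := ‹_›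
  haveI : IsIso (CommRingCat.ofHom (Away.map φ f)).op := isIso_of_reflects_iso _ Scheme.Spec
  haveI : IsIso (CommRingCat.ofHom (Away.map φ f)) := isIso_of_op _
  exact ConcreteCategory.bijective_of_isIso (CommRingCat.ofHom (Away.map φ f))

theorem exists_pow_mul_mem_range (p : (PCone.dom φ : Scheme.{u}) ⟶ Proj 𝒜)
    (hp : ∀ (d : ℕ) (f : A) (hd : 0 < d) (hf : f ∈ 𝒜 d),
      PCone.chart φ hf hd ≫ p = Spec.map (CommRingCat.ofHom (Away.map φ f)) ≫ Proj.awayι 𝒜 f hf hd)
    [IsIso p] {f : A} (hf : f ∈ 𝒜 1) {m : ℕ} {b : B} (hb : b ∈ ℬ m) :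
    ∃ (N : ℕ) (a : A), φ a = φ f ^ N * b := by
  have hb' : b ∈ ℬ (m • 1) := by rwa [smul_eq_mul, mul_one]
  obtain ⟨z, hz⟩ := (bijective_away_map p hp Nat.one_pos hf).2 (Away.mk ℬ (φ.2 hf) m b hb')
  obtain ⟨n, a, ha, rfl⟩ := Away.mk_surjective 𝒜 hf z
  have h := congrArg HomogeneousLocalization.val hz
  rw [Away.map_mk, Away.val_mk, Away.val_mk, Localization.mk_eq_mk_iff, Localization.r_iff_exists] at h
  obtain ⟨⟨_, K, rfl⟩, hK⟩ := h
  refine ⟨K + n, f ^ (K + m) * a, ?_⟩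
  rw [map_mul, map_pow, pow_add, pow_add, mul_assoc, mul_assoc]
  exact hK

omit [GradedAlgebra 𝒜] in
theorem range_dom (hdom : PCone.dom φ = ⊤) (x : Proj ℬ) : ∃ (d : ℕ) (f : A), 0 < d ∧ f ∈ 𝒜 d ∧
    x ∈ Proj.basicOpen ℬ (φ f) := by
  have hx : x ∈ PCone.dom φ := by rw [hdom]; trivial
  obtain ⟨⟨f, d, hd, hf⟩, hz⟩ := Opens.mem_iSup.mp hx
  exact ⟨d, f, hd, hf, hz⟩

end Groth.Agent.ProjDegOne
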