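import Groth.Agent.ProjDegOne.Charts
import Mathlib

/-!
# Eventual generation in degree one
-/

set_option autoImplicit false
set_option linter.style.haveILetI false

universe u

open CategoryTheory AlgebraicGeometry TopologicalSpace

namespace Groth.Agent.ProjDegOne

variable {R A B : Type u} [CommRing R] [CommRing A] [Algebra R A] (𝒜 : ℕ → Submodule R A) [GradedAlgebra 𝒜]
  [CommRing B] [Algebra R B] (ℬ : ℕ → Submodule R B) [GradedAlgebra ℬ]

omit [GradedAlgebra 𝒜] in
theorem pow_one_le_graded (n : ℕ) (hn : 1 ≤ n) : ℬ 1 ^ n ≤ ℬ n := by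
  induction n, hn using Nat.le_induction with
  | base => rw [pow_one]
  | succ n _ ih =>
    rw [pow_succ, Submodule.mul_le]
    exact fun x hx y hy => SetLike.mul_mem_graded (ih hx) hy

theorem proj_map (φ : 𝒜 →+*ᵍ ℬ) (a : A) (n : ℕ) :
    φ (GradedRing.proj 𝒜 n a) = GradedRing.proj ℬ n (φ a) := by
  classical
  induction a using DirectSum.Decomposition.inductionOn 𝒜 with
  | zero => simp
  | @homogeneous i a =>
    rw [GradedRing.proj_apply, GradedRing.proj_apply]
    rcases eq_or_ne i n with rfl | h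
    · rw [DirectSum.decompose_of_mem_same 𝒜 a.2, DirectSum.decompose_of_mem_same ℬ (show φ (a : A) ∈ ℬ i from φ.2 a.2)]
    · rw [DirectSum.decompose_of_mem_ne 𝒜 a.2 h, DirectSum.decompose_of_mem_ne ℬ (show φ (a : A) ∈ ℬ i from φ.2 a.2) h, map_zero]
  | add x y hx hy => simp only [map_add, hx, hy]

omit [GradedAlgebra 𝒜] in
theorem mem_radical_span_degOne (φ : 𝒜 →+*ᵍ ℬ) (hdom : PCone.dom φ = ⊤)
    (hgen : ∀ n : ℕ, 1 ≤ n → 𝒜 n = 𝒜 1 ^ n) {m : ℕ} {b : B} (hm : 0 < m) (hb : b ∈ ℬ m) :
    b ∈ (Ideal.span (φ '' (𝒜 1 : Set A))).radical := by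
  classical
  rw [Ideal.radical_eq_sInf, Submodule.mem_sInf]
  rintro P ⟨hJP, hP⟩
  by_contra hbP
  let x : Proj ℬ :=
    { asHomogeneousIdeal := Ideal.homogeneousCore ℬ P
      isPrime := Ideal.IsPrime.homogeneousCore hP
      not_irrelevant_le := fun hle => hbP (Ideal.toIdeal_homogeneousCore_le ℬ P (hle (by
        change GradedRing.proj ℬ 0 b = 0
        rw [GradedRing.proj_apply, DirectSum.decompose_of_mem_ne ℬ hb hm.ne']))) }
  obtain ⟨d, f, hd, hf, hx⟩ := range_dom hdom x
  have hmemA : ∀ a ∈ 𝒜 1, φ a ∈ P := fun a ha => hJP (Ideal.subset_span ⟨a, ha, rfl⟩)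
  have hfP : φ f ∈ P := by
    clear hx
    obtain ⟨k, rfl⟩ : ∃ k, d = k + 1 := ⟨d - 1, by omega⟩
    rw [hgen (k + 1) (by omega), pow_succ] at hf
    induction hf using Submodule.mul_induction_on' with
    | mem_mul_mem y _ z hz => rw [map_mul]; exact Ideal.mul_mem_left P _ (hmemA z hz)
    | add y _ z _ hy hz => rw [map_add]; exact P.add_mem hy hz
  exact hx (Ideal.mem_homogeneousCore_of_homogeneous_of_mem ⟨d, φ.2 hf⟩ hfP)

theorem eventually_eq_pow [Algebra.FiniteType (ℬ 0) B] (φ : 𝒜 →+*ᵍ ℬ)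
    (h0 : Set.BijOn φ (𝒜 0) (ℬ 0)) (h1 : Set.BijOn φ (𝒜 1) (ℬ 1))
    (hgen : ∀ n : ℕ, 1 ≤ n → 𝒜 n = 𝒜 1 ^ n) (hdom : PCone.dom φ = ⊤)
    (p : (PCone.dom φ : Scheme.{u}) ⟶ Proj 𝒜)
    (hp : ∀ (d : ℕ) (f : A) (hd : 0 < d) (hf : f ∈ 𝒜 d),
      PCone.chart φ hf hd ≫ p =
        Spec.map (CommRingCat.ofHom (HomogeneousLocalization.Away.map φ f)) ≫ Proj.awayι 𝒜 f hf hd)
    [IsIso p] : ∃ n₀ : ℕ, ∀ n : ℕ, n₀ ≤ n → ℬ n = ℬ 1 ^ n := by
  classical
  obtain ⟨s, hs⟩ := Algebra.FiniteType.out (R := ℬ 0) (A := B)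
  -- homogeneous generators of positive degree
  let G : Finset (ℕ × B) := s.biUnion fun x => ((DirectSum.decompose ℬ x).support.filter (0 < ·)).image
    fun i => (i, (DirectSum.decompose ℬ x i : B))
  have hG : ∀ g ∈ G, 0 < g.1 ∧ g.2 ∈ ℬ g.1 := by
    intro g hg
    simp only [G, Finset.mem_biUnion, Finset.mem_image, Finset.mem_filter] at hg
    obtain ⟨x, -, i, ⟨-, hi⟩, rfl⟩ := hg
    exact ⟨hi, SetLike.coe_mem _⟩
  -- the monomials
  let deg : (G → ℕ) → ℕ := fun e => ∑ g, e g * g.1.1
  let mon : (G → ℕ) → B := fun e => ∏ g, g.1.2 ^ e g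
  have hmon : ∀ e, mon e ∈ ℬ (deg e) := fun e => by
    simp only [mon, deg]
    exact SetLike.prod_mem_graded ℬ (fun g : G => e g * g.1.1) (fun g : G => g.1.2 ^ e g) fun g _ => by
      simpa [smul_eq_mul] using SetLike.pow_mem_graded (e g) (hG g.1 g.2).2
  have hspan : ∀ x : B, x ∈ AddSubmonoid.closure {y | ∃ c ∈ ℬ 0, ∃ e, y = c * mon e} := by
    let S := AddSubmonoid.closure {y | ∃ c ∈ ℬ 0, ∃ e, y = c * mon e}
    have hc0 : ∀ c ∈ ℬ 0, c ∈ S := fun c hc => AddSubmonoid.subset_closure ⟨c, hc, 0, by simp [mon]⟩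
    have hmul : ∀ x ∈ S, ∀ y ∈ S, x * y ∈ S := by
      intro x hx y hy
      induction hx using AddSubmonoid.closure_induction with
      | mem x hx =>
        induction hy using AddSubmonoid.closure_induction with
        | mem y hy =>
          obtain ⟨c, hc, e, rfl⟩ := hx
          obtain ⟨c', hc', e', rfl⟩ := hy
          refine AddSubmonoid.subset_closure ⟨c * c', by simpa using SetLike.mul_mem_graded hc hc', e + e', ?_⟩
          simp only [mon, Pi.add_apply, pow_add, Finset.prod_mul_distrib]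
          ring
        | zero => rw [mul_zero]; exact zero_mem _
        | add a b _ _ ha hb => rw [mul_add]; exact add_mem ha hb
      | zero => rw [zero_mul]; exact zero_mem _
      | add a b _ _ ha hb => rw [add_mul]; exact add_mem ha hb
    intro x
    have hx : x ∈ Algebra.adjoin (ℬ 0) (s : Set B) := by rw [hs]; trivial
    induction hx using Algebra.adjoin_induction with
    | mem x hx =>
      rw [← DirectSum.sum_support_decompose ℬ x]
      refine sum_mem fun i hi => ?_
      rcases Nat.eq_zero_or_pos i with rfl | hpos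
      · exact hc0 _ (SetLike.coe_mem _)
      · have hg : (i, (DirectSum.decompose ℬ x i : B)) ∈ G := by
          simp only [G, Finset.mem_biUnion, Finset.mem_image, Finset.mem_filter]
          exact ⟨x, hx, i, ⟨hi, hpos⟩, rfl⟩
        refine AddSubmonoid.subset_closure ⟨1, SetLike.one_mem_graded ℬ, Pi.single ⟨_, hg⟩ 1, ?_⟩
        simp only [mon, one_mul]
        rw [Finset.prod_eq_single ⟨_, hg⟩ (fun g _ hne => by simp [Pi.single_eq_of_ne hne]) (by simp)]
        simp
    | algebraMap c => exact hc0 _ c.2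
    | add a b _ _ ha hb => exact add_mem ha hb
    | mul a b _ _ ha hb => exact hmul a ha b hb
  have hproj : ∀ n, ∀ x ∈ ℬ n, x ∈ AddSubmonoid.closure {y | ∃ c ∈ ℬ 0, ∃ e, deg e = n ∧ y = c * mon e} := by
    intro n x hx
    rw [← DirectSum.decompose_of_mem_same ℬ hx, ← GradedRing.proj_apply]
    have := hspan x
    revert this
    generalize x = y
    intro hy
    induction hy using AddSubmonoid.closure_induction with
    | mem y hy =>
      obtain ⟨c, hc, e, rfl⟩ := hy
      have hce : c * mon e ∈ ℬ (deg e) := by simpa using SetLike.mul_mem_graded hc (hmon e)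
      rw [GradedRing.proj_apply]
      rcases eq_or_ne (deg e) n with h | h
      · rw [DirectSum.decompose_of_mem_same ℬ (h ▸ hce)]
        exact AddSubmonoid.subset_closure ⟨c, hc, e, h, rfl⟩
      · rw [DirectSum.decompose_of_mem_ne ℬ hce h]
        exact zero_mem _
    | zero => rw [map_zero]; exact zero_mem _
    | add a b _ _ ha hb => rw [map_add]; exact add_mem ha hb
  -- finitely many generators in degree one
  have hG1 : ∀ g ∈ G.filter (fun g => g.1 = 1), g.2 ∈ ℬ 1 := fun g hg => by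
    have h := (hG g (Finset.mem_filter.1 hg).1).2
    rwa [(Finset.mem_filter.1 hg).2] at h
  let F₁ : Finset A := (G.filter fun g => g.1 = 1).attach.image
    fun g => Classical.choose (h1.2.2 (hG1 g.1 g.2))
  have hrad : ∀ g : G, ∃ (T : ℕ) (F : Finset A), 0 < T ∧ (↑F : Set A) ⊆ 𝒜 1 ∧
      g.1.2 ^ T ∈ Ideal.span (φ '' (F : Set A)) := by
    intro g
    obtain ⟨T, hT⟩ := mem_radical_span_degOne 𝒜 ℬ φ hdom hgen (hG g.1 g.2).1 (hG g.1 g.2).2
    obtain ⟨t, ht, hmem⟩ := Submodule.mem_span_finite_of_mem_span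
      (show g.1.2 ^ (T + 1) ∈ Ideal.span (φ '' (𝒜 1 : Set A)) by rw [pow_succ]; exact Ideal.mul_mem_right _ _ hT)
    obtain ⟨F, hF, rfl⟩ := Finset.subset_set_image_iff.1 ht
    exact ⟨T + 1, F, T.succ_pos, hF, by simpa using hmem⟩
  choose T F₂ hT hF₂ hmemF using hrad
  let F : Finset A := F₁ ∪ Finset.univ.biUnion F₂
  have hF : ∀ f ∈ F, f ∈ 𝒜 1 := by
    intro f hf
    rcases Finset.mem_union.1 hf with h | h
    · obtain ⟨g, -, rfl⟩ := Finset.mem_image.1 h
      exact (Classical.choose_spec (h1.2.2 (hG1 g.1 g.2))).1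
    · obtain ⟨g, -, hg⟩ := Finset.mem_biUnion.1 h
      exact hF₂ g hg
  -- the small monomials generate over the image
  let Small : Finset (G → ℕ) := Fintype.piFinset fun g => Finset.range (T g)
  let P : ℕ → AddSubmonoid B := fun n =>
    AddSubmonoid.closure {y | ∃ q, ∃ a ∈ 𝒜 q, ∃ e ∈ Small, q + deg e = n ∧ y = φ a * mon e}
  have hPmul : ∀ {n j : ℕ} {a : A}, a ∈ 𝒜 j → ∀ y ∈ P n, φ a * y ∈ P (j + n) := by
    intro n j a ha y hy
    induction hy using AddSubmonoid.closure_induction with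
    | mem y hy =>
      obtain ⟨q, a', ha', e, he, hdeg, rfl⟩ := hy
      refine AddSubmonoid.subset_closure ⟨j + q, a * a', SetLike.mul_mem_graded ha ha', e, he, by omega, ?_⟩
      rw [map_mul, mul_assoc]
    | zero => rw [mul_zero]; exact zero_mem _
    | add u v _ _ hu hv => rw [mul_add]; exact add_mem hu hv
  have hP : ∀ n, ∀ x ∈ ℬ n, x ∈ P n := by
    intro n
    induction n using Nat.strong_induction_on with
    | h n ih =>
      intro x hx
      refine (AddSubmonoid.closure_le (S := P n)).2 ?_ (hproj n x hx)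
      rintro _ ⟨c, hc, e, rfl, rfl⟩
      obtain ⟨a₀, ha₀, rfl⟩ := h0.2.2 hc
      suffices hm : mon e ∈ P (deg e) by simpa using hPmul ha₀ _ hm
      by_cases hsmall : e ∈ Small
      · exact AddSubmonoid.subset_closure ⟨0, 1, SetLike.one_mem_graded 𝒜, e, hsmall, by simp, by simp⟩
      simp only [Small, Fintype.mem_piFinset, Finset.mem_range, not_forall, not_lt] at hsmall
      obtain ⟨g, hg⟩ := hsmall
      let e' : G → ℕ := Function.update e g (e g - T g)
      have hsplit : mon e = g.1.2 ^ T g * mon e' := by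
        simp only [mon, e']
        rw [← Finset.mul_prod_erase Finset.univ (fun x : G => x.1.2 ^ e x) (Finset.mem_univ g),
          ← Finset.mul_prod_erase Finset.univ (fun x : G => x.1.2 ^ Function.update e g (e g - T g) x)
            (Finset.mem_univ g)]
        rw [Function.update_self, ← mul_assoc, ← pow_add, Nat.add_sub_cancel' hg]
        congr 1
        refine Finset.prod_congr rfl fun x hx => ?_
        rw [Function.update_of_ne (Finset.ne_of_mem_erase hx)]
      obtain ⟨cf, -, hcf⟩ := Submodule.mem_span_finset.1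
        (show g.1.2 ^ T g ∈ Submodule.span B ((F₂ g).image φ : Set B) by rw [Finset.coe_image]; exact hmemF g)
      have hmem' : g.1.2 ^ T g * mon e' ∈ ℬ (deg e) := by rw [← hsplit]; exact hmon e
      rw [hsplit, ← DirectSum.decompose_of_mem_same ℬ hmem',
        ← hcf, Finset.sum_mul, ← GradedRing.proj_apply, map_sum]
      refine sum_mem fun y hy => ?_
      obtain ⟨f, hf, rfl⟩ := Finset.mem_image.1 hy
      have hdeg : 1 ≤ deg e := by
        refine le_trans ?_ (Finset.single_le_sum (f := fun x : G => e x * x.1.1) (fun _ _ => Nat.zero_le _)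
          (Finset.mem_univ g))
        exact Nat.one_le_iff_ne_zero.2 (Nat.mul_ne_zero (by have := hT g; omega) (by have := (hG g.1 g.2).1; omega))
      rw [smul_eq_mul, show cf (φ f) * φ f * mon e' = φ f * (cf (φ f) * mon e') by ring, GradedRing.proj_apply,
        DirectSum.coe_decompose_mul_of_left_mem_of_le ℬ (show φ f ∈ ℬ 1 from φ.2 (hF₂ g hf)) hdeg]
      have hstep := hPmul (hF₂ g hf) _ (ih (deg e - 1) (by omega) _ (SetLike.coe_mem
        (DirectSum.decompose ℬ (cf (φ f) * mon e') (deg e - 1))))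
      rwa [show 1 + (deg e - 1) = deg e by omega] at hstep
  -- uniform denominators
  choose N aN hN using fun (f : F) (e : G → ℕ) => exists_pow_mul_mem_range p hp (hF f.1 f.2) (hmon e)
  let N₀ : ℕ := Finset.univ.sup fun f : F => Small.sup fun e => N f e
  let J : Ideal A := Ideal.span (F : Set A)
  let J' : Ideal A := Ideal.span ((fun f => f ^ N₀) '' (F : Set A))
  obtain ⟨Q, hQ⟩ : ∃ Q, J ^ Q ≤ J' := by
    refine Ideal.exists_pow_le_of_le_radical_of_fg ?_ (Submodule.fg_span F.finite_toSet)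
    exact Ideal.span_le.2 fun f hf => ⟨N₀, Ideal.subset_span ⟨f, hf, rfl⟩⟩
  have hA1 : ∀ a ∈ 𝒜 1, a ∈ J := by
    intro a ha
    have hmem : φ a ∈ AddSubmonoid.closure {y | ∃ c ∈ ℬ 0, ∃ e, deg e = 1 ∧ y = c * mon e} := hproj 1 _ (φ.2 ha)
    obtain ⟨a', ha', hJ, heq⟩ : ∃ a', a' ∈ 𝒜 1 ∧ a' ∈ J ∧ φ a' = φ a := by
      revert hmem
      generalize φ a = y
      intro hy
      induction hy using AddSubmonoid.closure_induction with
      | mem y hy =>
        obtain ⟨c, hc, e, he, rfl⟩ := hy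
        obtain ⟨a₀, ha₀, rfl⟩ := h0.2.2 hc
        obtain ⟨g, hg⟩ : ∃ g, e g ≠ 0 := by
          by_contra hno
          push Not at hno
          simp [deg, hno] at he
        have hsum := Finset.add_sum_erase Finset.univ (fun x : G => e x * x.1.1) (Finset.mem_univ g)
        simp only [deg] at he
        have hg1 : e g * g.1.1 = 1 := by
          have h1le : 1 ≤ e g * g.1.1 :=
            Nat.one_le_iff_ne_zero.2 (Nat.mul_ne_zero hg (by have := (hG g.1 g.2).1; omega))
          omega
        obtain ⟨he1, hd1⟩ := mul_eq_one.1 hg1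
        have hrest : ∀ x ∈ Finset.univ.erase g, g.1.1 = 1 ∧ x.1.2 ^ e x = 1 := by
          intro x hx
          refine ⟨hd1, ?_⟩
          have hz : ∑ x ∈ Finset.univ.erase g, e x * x.1.1 = 0 := by omega
          have h0' : e x * x.1.1 = 0 := Finset.sum_eq_zero_iff.1 hz x hx
          rcases Nat.mul_eq_zero.1 h0' with h | h
          · rw [h, pow_zero]
          · have := (hG x.1 x.2).1; omega
        have hgm : g.1 ∈ G.filter (fun g => g.1 = 1) := Finset.mem_filter.2 ⟨g.2, hd1⟩
        have hch := Classical.choose_spec (h1.2.2 (hG1 g.1 hgm))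
        refine ⟨a₀ * _, by simpa using SetLike.mul_mem_graded ha₀ hch.1,
          J.mul_mem_left _ (Ideal.subset_span (Finset.mem_union_left _
            (Finset.mem_image.2 ⟨⟨g.1, hgm⟩, Finset.mem_attach _ _, rfl⟩))), ?_⟩
        rw [map_mul, hch.2]
        congr 1
        simp only [mon]
        rw [← Finset.mul_prod_erase Finset.univ (fun x : G => x.1.2 ^ e x) (Finset.mem_univ g),
          Finset.prod_eq_one fun x hx => (hrest x hx).2, he1, pow_one, mul_one]
      | zero => exact ⟨0, zero_mem _, zero_mem _, map_zero _⟩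
      | add u v _ _ hu hv =>
        obtain ⟨u', hu1, hu2, rfl⟩ := hu
        obtain ⟨v', hv1, hv2, rfl⟩ := hv
        exact ⟨u' + v', add_mem hu1 hv1, add_mem hu2 hv2, map_add _ _ _⟩
    exact h1.2.1 ha' ha heq ▸ hJ
  have hAq : ∀ q, 1 ≤ q → ∀ a ∈ 𝒜 q, a ∈ J ^ q := by
    intro q hq
    induction q, hq using Nat.le_induction with
    | base => intro a ha; rw [pow_one]; exact hA1 a ha
    | succ q hq' ih =>
      intro a ha
      rw [hgen (q + 1) (by omega), pow_succ, ← hgen q hq'] at ha
      rw [pow_succ]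
      induction ha using Submodule.mul_induction_on' with
      | mem_mul_mem y hy z hz => exact Ideal.mul_mem_mul (ih y hy) (hA1 z hz)
      | add y _ z _ hy hz => exact add_mem hy hz
  let D := Small.sup deg
  refine ⟨max 1 Q + D, fun n hn => le_antisymm ?_ (pow_one_le_graded ℬ n (by omega))⟩
  intro x hx
  obtain ⟨a, ha⟩ : ∃ a, φ a = x := by
    have hxP := hP n x hx
    clear hx
    induction hxP using AddSubmonoid.closure_induction with
    | mem y hy =>
      obtain ⟨q, a, ha, e, he, hdeg, rfl⟩ := hy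
      have hde : deg e ≤ D := Finset.le_sup he
      have haJ : a ∈ J' := hQ (Ideal.pow_le_pow_right (by omega) (hAq q (by omega) a ha))
      refine Submodule.span_induction (p := fun a _ => ∃ b, φ b = φ a * mon e) ?_ ⟨0, by simp⟩ ?_ ?_ haJ
      · rintro _ ⟨f, hf, rfl⟩
        have hle : N ⟨f, hf⟩ e ≤ N₀ :=
          le_trans (Finset.le_sup (f := fun e => N ⟨f, hf⟩ e) he)
            (Finset.le_sup (f := fun f : F => Small.sup fun e => N f e) (Finset.mem_univ _))
        refine ⟨f ^ (N₀ - N ⟨f, hf⟩ e) * aN ⟨f, hf⟩ e, ?_⟩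
        rw [map_mul, hN, map_pow, ← mul_assoc, ← pow_add, Nat.sub_add_cancel hle, map_pow]
      · rintro u v _ _ ⟨b, hb⟩ ⟨b', hb'⟩
        exact ⟨b + b', by rw [map_add, map_add, hb, hb', add_mul]⟩
      · rintro c u _ ⟨b, hb⟩
        exact ⟨c * b, by rw [smul_eq_mul, map_mul, map_mul, hb, mul_assoc]⟩
    | zero => exact ⟨0, map_zero _⟩
    | add u v _ _ hu hv =>
      obtain ⟨b, rfl⟩ := hu
      obtain ⟨b', rfl⟩ := hv
      exact ⟨b + b', map_add _ _ _⟩
  have hxn : x = φ (GradedRing.proj 𝒜 n a) := by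
    rw [proj_map, ha, GradedRing.proj_apply, DirectSum.decompose_of_mem_same ℬ hx]
  rw [hxn]
  have himg : ∀ k, 1 ≤ k → ∀ a ∈ 𝒜 k, φ a ∈ ℬ 1 ^ k := by
    intro k hk
    induction k, hk using Nat.le_induction with
    | base => intro a ha; rw [pow_one]; exact φ.2 ha
    | succ k hk' ih =>
      intro a ha
      rw [hgen (k + 1) (by omega), pow_succ, ← hgen k hk'] at ha
      rw [pow_succ]
      induction ha using Submodule.mul_induction_on' with
      | mem_mul_mem y hy z hz => rw [map_mul]; exact Submodule.mul_mem_mul (ih y hy) (φ.2 hz)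
      | add y _ z _ hy hz => rw [map_add]; exact add_mem hy hz
  exact himg n (by omega) _ (by rw [GradedRing.proj_apply]; exact SetLike.coe_mem _)

end Groth.Agent.ProjDegOne
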